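import Cfsg.Agent.S2791
import Mathlib.GroupTheory.Sylow
import Mathlib.GroupTheory.Transfer

/-!
Groups in which every 2-element centralizes a Sylow 2-subgroup have abelian Sylow 2-subgroups.

No such element of order at least 4 is real, so the involutions of a Sylow 2-subgroup generate a
strongly closed elementary abelian subgroup, which is then central; induction on its normalizer.
-/

set_option autoImplicit false
set_option linter.style.haveILetI false
open Cfsg

namespace CfsgLib.OddClassTwo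

universe u

variable {G : Type u} [Group G] [Finite G]

/-- Every 2-element centralizes a Sylow 2-subgroup. -/
def Hyp (G : Type u) [Group G] : Prop :=
  ∀ x : G, (∃ k : ℕ, x ^ 2 ^ k = 1) → ∃ Q : Sylow 2 G, ∀ q ∈ Q, q * x = x * q

omit [Finite G] in
theorem exists_pow_of_mem {P : Sylow 2 G} {x : G} (hx : x ∈ P) : ∃ k : ℕ, x ^ 2 ^ k = 1 := by
  obtain ⟨k, hk⟩ := P.isPGroup' ⟨x, hx⟩
  exact ⟨k, congrArg Subtype.val hk⟩

/-- A 2-element normalizing the cyclic group of a 2-element centralizes it. -/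
theorem Hyp.norm_comm (h : Hyp G) {r g : G} (hr : ∃ k : ℕ, r ^ 2 ^ k = 1)
    (hg : ∃ k : ℕ, g ^ 2 ^ k = 1) (hn : g * r * g⁻¹ ∈ Subgroup.zpowers r) : g * r = r * g := by
  haveI : Fact (Nat.Prime 2) := ⟨Nat.prime_two⟩
  set N := Subgroup.normalizer ((Subgroup.zpowers r : Subgroup G) : Set G) with hN
  set C := Subgroup.centralizer ({r} : Set G) with hC
  have hgN : g ∈ N := by
    rw [hN, Subgroup.mem_normalizer_iff_map_conj_eq, MonoidHom.map_zpowers]
    refine Subgroup.eq_of_le_of_card_ge (Subgroup.zpowers_le.2 hn) (le_of_eq ?_)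
    rw [Nat.card_zpowers, Nat.card_zpowers]
    exact (MulEquiv.orderOf_eq (MulAut.conj g) r).symm
  have hCN : C ≤ N := fun c hc => by
    rw [hN, Subgroup.mem_normalizer_iff_map_conj_eq, MonoidHom.map_zpowers]
    congr 1
    show c * r * c⁻¹ = r
    rw [Subgroup.mem_centralizer_singleton_iff.1 hc, mul_inv_cancel_right]
  haveI : (C.subgroupOf N).Normal := ⟨fun c hc n => by
    rw [Subgroup.mem_subgroupOf] at hc ⊢
    refine Subgroup.mem_centralizer_singleton_iff.2 ?_
    have hn' : (n : G)⁻¹ * r * (n : G)⁻¹⁻¹ ∈ Subgroup.zpowers r :=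
      (Subgroup.mem_normalizer_iff.1 (inv_mem n.2) r).1 (Subgroup.mem_zpowers r)
    obtain ⟨i, hi⟩ := hn'
    change r ^ i = _ at hi
    have hci : (c : G) * r ^ i = r ^ i * c :=
      ((show Commute (c : G) r from Subgroup.mem_centralizer_singleton_iff.1 hc).zpow_right i).eq
    rw [hi] at hci
    simp only [Subgroup.coe_mul, InvMemClass.coe_inv]
    calc (n : G) * c * (n : G)⁻¹ * r
        = (n : G) * (c * ((n : G)⁻¹ * r * (n : G)⁻¹⁻¹)) * (n : G)⁻¹ := by group
      _ = (n : G) * ((n : G)⁻¹ * r * (n : G)⁻¹⁻¹ * c) * (n : G)⁻¹ := by rw [hci]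
      _ = r * ((n : G) * c * (n : G)⁻¹) := by group⟩
  obtain ⟨Q, hQ⟩ := h r hr
  have hodd : Odd (C.relIndex N) := by
    refine Nat.not_even_iff_odd.1 fun he => Q.not_dvd_index (he.two_dvd.trans ?_)
    exact (Subgroup.relIndex_dvd_index_of_le hCN).trans
      (Subgroup.index_dvd_of_le fun q hq => Subgroup.mem_centralizer_singleton_iff.2 (hQ q hq))
  have h1 : g ^ C.relIndex N ∈ C := by
    have := Subgroup.pow_index_mem (H := C.subgroupOf N) ⟨g, hgN⟩
    rw [Subgroup.mem_subgroupOf] at this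
    exact this
  obtain ⟨k, hk⟩ := hg
  have hco : Nat.Coprime (C.relIndex N) (2 ^ k) := Nat.Coprime.pow_right k hodd.coprime_two_right
  obtain ⟨m, hm⟩ := exists_pow_eq_self_of_coprime
    (hco.coprime_dvd_right (orderOf_dvd_of_pow_eq_one hk))
  have : g ∈ C := hm ▸ pow_mem h1 m
  exact Subgroup.mem_centralizer_singleton_iff.1 this

theorem Hyp.involutions_comm (h : Hyp G) {P : Sylow 2 G} {s t : G} (hs : s ∈ P) (ht : t ∈ P)
    (hs2 : s * s = 1) (ht2 : t * t = 1) : s * t = t * s := by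
  have hr := exists_pow_of_mem (mul_mem hs ht)
  have hsi : s⁻¹ = s := inv_eq_of_mul_eq_one_right hs2
  have hti : t⁻¹ = t := inv_eq_of_mul_eq_one_right ht2
  have hn : s * (s * t) * s⁻¹ ∈ Subgroup.zpowers (s * t) := by
    rw [← mul_assoc, hs2, one_mul, hsi, show t * s = (s * t)⁻¹ by rw [mul_inv_rev, hsi, hti]]
    exact inv_mem (Subgroup.mem_zpowers _)
  have := h.norm_comm hr (exists_pow_of_mem hs) hn
  rw [← mul_assoc, hs2, one_mul] at this
  calc s * t = s * (s * t * s) := by rw [← this]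
    _ = t * s := by rw [← mul_assoc, ← mul_assoc, hs2, one_mul]

theorem Hyp.of_centralizer (h : ∀ x : G, (∃ k : ℕ, orderOf x = 2 ^ k) →
    ¬ 2 ∣ (Subgroup.centralizer ({x} : Set G)).index) : Hyp G := by
  haveI : Fact (Nat.Prime 2) := ⟨Nat.prime_two⟩
  intro x ⟨k, hk⟩
  obtain ⟨j, -, hj⟩ := (Nat.dvd_prime_pow Nat.prime_two).1 (orderOf_dvd_of_pow_eq_one hk)
  set C := Subgroup.centralizer ({x} : Set G)
  obtain ⟨Q₀⟩ : Nonempty (Sylow 2 C) := inferInstance
  have hidx : ¬ 2 ∣ ((Q₀ : Subgroup C).map C.subtype).index := by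
    rw [Subgroup.index_map_subtype]
    intro hd
    rcases Nat.prime_two.dvd_mul.1 hd with hd | hd
    · exact Q₀.not_dvd_index hd
    · exact h x ⟨j, hj⟩ hd
  refine ⟨(Q₀.isPGroup'.map C.subtype).toSylow hidx, fun q hq => ?_⟩
  obtain ⟨c, -, rfl⟩ := hq
  exact Subgroup.mem_centralizer_singleton_iff.1 c.2

/-- Every element of a Sylow subgroup is conjugate to a central element of it. -/
theorem Hyp.exists_central (h : Hyp G) {T : Sylow 2 G} {x : G} (hx : x ∈ T) :
    ∃ g : G, g * x * g⁻¹ ∈ T ∧ ∀ t ∈ T, t * (g * x * g⁻¹) = g * x * g⁻¹ * t := by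
  haveI : Fact (Nat.Prime 2) := ⟨Nat.prime_two⟩
  obtain ⟨Q, hQ⟩ := h x (exists_pow_of_mem hx)
  have hxQ : x ∈ Q := by
    have hle : Subgroup.zpowers x ≤ Subgroup.normalizer ((Q : Subgroup G) : Set G) :=
      Subgroup.zpowers_le.2 (Subgroup.mem_normalizer_iff.2 fun q => by
        constructor
        · intro hq
          rw [← hQ q hq, mul_inv_cancel_right]; exact hq
        · intro hq
          have := hQ _ hq
          have h' : x * q * x⁻¹ = q := by
            calc x * q * x⁻¹ = x⁻¹ * (x * (x * q * x⁻¹)) := by group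
              _ = x⁻¹ * (x * q * x⁻¹ * x) := by rw [this]
              _ = q := by group
          exact h' ▸ hq)
    have hp : IsPGroup 2 (Subgroup.zpowers x ⊔ (Q : Subgroup G) : Subgroup G) :=
      (T.isPGroup'.to_le (Subgroup.zpowers_le.2 hx)).to_sup_of_normal_right' Q.isPGroup' hle
    have h1 := (le_sup_left : Subgroup.zpowers x ≤ Subgroup.zpowers x ⊔ (Q : Subgroup G))
      (Subgroup.mem_zpowers x)
    rw [Q.is_maximal' hp le_sup_right] at h1
    exact h1
  obtain ⟨g, hg⟩ := MulAction.exists_smul_eq G Q T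
  have key : ∀ y, y ∈ Q → g * y * g⁻¹ ∈ T := fun y hy => by
    rw [← hg, Sylow.smul_def]
    exact Subgroup.mem_map_of_mem (MulAut.conj g).toMonoidHom hy
  refine ⟨g, key x hxQ, fun t ht => ?_⟩
  rw [← hg, Sylow.smul_def] at ht
  obtain ⟨q, hq, rfl⟩ := ht
  show g * q * g⁻¹ * (g * x * g⁻¹) = g * x * g⁻¹ * (g * q * g⁻¹)
  calc g * q * g⁻¹ * (g * x * g⁻¹) = g * (q * x) * g⁻¹ := by group
    _ = g * (x * q) * g⁻¹ := by rw [hQ q hq]
    _ = _ := by group

theorem comm_of_card_le : ∀ (n : ℕ) (G : Type u) [Group G] [Finite G], Nat.card G ≤ n → Hyp G →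
    ∃ T : Sylow 2 G, ∀ a ∈ T, ∀ b ∈ T, a * b = b * a := by
  intro n
  induction n with
  | zero => intro G _ _ hn; exact absurd hn (Nat.not_le.2 Nat.card_pos)
  | succ n ih =>
    intro G _ _ hn h
    haveI : Fact (Nat.Prime 2) := ⟨Nat.prime_two⟩
    obtain ⟨S⟩ : Nonempty (Sylow 2 G) := inferInstance
    let A : Subgroup G :=
      { carrier := {x | x ∈ S ∧ x * x = 1}
        one_mem' := ⟨one_mem _, one_mul 1⟩
        mul_mem' := fun {a b} ha hb => ⟨mul_mem ha.1 hb.1, by
          rw [show a * b * (a * b) = a * (b * a) * b by group,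
            ← h.involutions_comm ha.1 hb.1 ha.2 hb.2,
            show a * (a * b) * b = (a * a) * (b * b) by group, ha.2, hb.2, one_mul]⟩
        inv_mem' := fun {a} ha => ⟨inv_mem ha.1, by rw [← mul_inv_rev, ha.2, inv_one]⟩ }
    have hsc : IsStronglyClosed A (S : Subgroup G) := by
      refine ⟨fun x hx => hx.1, fun x hx g hg => ⟨hg, ?_⟩⟩
      rw [show g * x * g⁻¹ * (g * x * g⁻¹) = g * (x * x) * g⁻¹ by group, hx.2]; group
    have hAc : IsMulCommutative A :=
      ⟨⟨fun a b => Subtype.ext (h.involutions_comm a.2.1 b.2.1 a.2.2 b.2.2)⟩⟩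
    obtain ⟨T, hAT, hT⟩ := Cfsg.Agent.S2791.result S A hAc hsc
    refine ⟨T, ?_⟩
    set N := Subgroup.normalizer (A : Set G) with hN
    have hA2 : ∀ x ∈ T, x * x = 1 → x ∈ A := by
      obtain ⟨g, hg⟩ := MulAction.exists_smul_eq G T S
      intro x hx hx2
      -- conjugation sends `A` into itself
      have hmap : A.map (MulAut.conj g).toMonoidHom ≤ A := by
        rintro _ ⟨a, ha, rfl⟩
        refine ⟨?_, ?_⟩
        · rw [← hg, Sylow.smul_def]
          exact Subgroup.mem_map_of_mem (MulAut.conj g).toMonoidHom (hAT ha)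
        · rw [← map_mul, ha.2, map_one]
      have hgx : g * x * g⁻¹ ∈ A := ⟨by
        rw [← hg, Sylow.smul_def]; exact Subgroup.mem_map_of_mem (MulAut.conj g).toMonoidHom hx,
        by rw [show g * x * g⁻¹ * (g * x * g⁻¹) = g * (x * x) * g⁻¹ by group, hx2]; group⟩
      have heq : A.map (MulAut.conj g).toMonoidHom = A := Subgroup.eq_of_le_of_card_ge hmap
        (Subgroup.card_map_of_injective (f := (MulAut.conj g).toMonoidHom)
          (MulAut.conj g).injective).ge
      rw [← heq] at hgx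
      obtain ⟨a, ha, he⟩ := hgx
      exact (MulAut.conj g).injective he ▸ ha
    have hTN : (T : Subgroup G) ≤ N := fun t ht => by
      refine Subgroup.mem_normalizer_iff.2 fun x => ⟨fun hx => ?_, fun hx => ?_⟩
      · exact hA2 _ (mul_mem (mul_mem ht (hAT hx)) (inv_mem ht))
          (by rw [show t * x * t⁻¹ * (t * x * t⁻¹) = t * (x * x) * t⁻¹ by group, hx.2]; group)
      · have := hA2 (t⁻¹ * (t * x * t⁻¹) * t) (mul_mem (mul_mem (inv_mem ht) (hAT hx)) ht)
          (by rw [show t⁻¹ * (t * x * t⁻¹) * t * (t⁻¹ * (t * x * t⁻¹) * t)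
            = t⁻¹ * ((t * x * t⁻¹) * (t * x * t⁻¹)) * t by group, hx.2]; group)
        rwa [show t⁻¹ * (t * x * t⁻¹) * t = x by group] at this
    -- each element of `T` is moved to the centre of `T` inside `N`
    have hfus : ∀ x ∈ T, ∃ k ∈ N, k * x * k⁻¹ ∈ T ∧ ∀ t ∈ T, t * (k * x * k⁻¹) = k * x * k⁻¹ * t := by
      intro x hx
      obtain ⟨g, hgT, hgc⟩ := h.exists_central hx
      obtain ⟨k, hk, hke⟩ := (hT {x} (Set.singleton_subset_iff.2 hx)).2 g
        (by rw [Set.image_singleton, Set.singleton_subset_iff]; exact hgT)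
      have he := hke x rfl
      exact ⟨k, hk, he ▸ hgT, he ▸ hgc⟩
    -- `A` is central in `T`
    have hcen : ∀ x ∈ T, ∀ a ∈ A, a * x = x * a := by
      intro x hx a ha
      obtain ⟨k, hk, -, hkc⟩ := hfus x hx
      have hka : k * a * k⁻¹ ∈ A := (Subgroup.mem_normalizer_iff.1 hk a).1 ha
      have := hkc _ (hAT hka)
      calc a * x = k⁻¹ * ((k * a * k⁻¹) * (k * x * k⁻¹)) * k := by group
        _ = k⁻¹ * ((k * x * k⁻¹) * (k * a * k⁻¹)) * k := by rw [this]
        _ = x * a := by group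
    by_cases hbot : A = ⊥
    · intro a ha b hb
      have htriv : ∀ x ∈ T, x = 1 := by
        intro x hx
        obtain ⟨j, hj⟩ := exists_pow_of_mem hx
        induction j generalizing x with
        | zero => simpa using hj
        | succ j ihj =>
          have hxx : x * x = 1 := by
            refine ihj (x * x) (mul_mem hx hx) ?_
            rw [← pow_two, ← pow_mul, ← pow_succ']; exact hj
          have := hA2 x hx hxx
          rwa [hbot, Subgroup.mem_bot] at this
      rw [htriv a ha, htriv b hb]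
    -- the quotient of the normalizer
    set A' := A.subgroupOf N
    haveI : A'.Normal := Subgroup.normal_in_normalizer
    set π := QuotientGroup.mk' A'
    let TN : Sylow 2 N := T.subtype hTN
    have hπs : Function.Surjective π := QuotientGroup.mk'_surjective A'
    let TQ : Sylow 2 (N ⧸ A') := TN.mapSurjective hπs
    have hTNmem : ∀ y : N, y ∈ TN ↔ (y : G) ∈ T := fun y => Subgroup.mem_subgroupOf
    have hQ : Hyp (N ⧸ A') := by
      intro y ⟨j, hj⟩
      obtain ⟨y, rfl⟩ := hπs y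
      -- a lift which is a 2-element
      have hy2 : IsPGroup 2 (Subgroup.zpowers y) := by
        have hmem : y ^ 2 ^ j ∈ A' := (QuotientGroup.eq_one_iff _).1 (by rw [QuotientGroup.mk_pow]; exact hj)
        have hpow : y ^ 2 ^ (j + 1) = 1 := by
          rw [pow_succ, pow_mul, pow_two]
          exact Subtype.ext (Subgroup.mem_subgroupOf.1 hmem).2
        obtain ⟨i, -, hi⟩ := (Nat.dvd_prime_pow Nat.prime_two).1 (orderOf_dvd_of_pow_eq_one hpow)
        exact IsPGroup.of_card (n := i) (by rw [Nat.card_zpowers, hi])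
      obtain ⟨R, hR⟩ := hy2.exists_le_sylow
      obtain ⟨m, hm⟩ := MulAction.exists_smul_eq N R TN
      have hyT : (m : G) * y * (m : G)⁻¹ ∈ T := by
        have : (MulAut.conj m) y ∈ TN := by
          rw [← hm, Sylow.smul_def]
          exact Subgroup.mem_map_of_mem _ (hR (Subgroup.mem_zpowers y))
        exact (hTNmem _).1 this
      obtain ⟨k, hk, -, hkc⟩ := hfus _ hyT
      let c : N := ⟨k, hk⟩ * m
      refine ⟨(π c)⁻¹ • TQ, fun q hq => ?_⟩
      rw [Sylow.smul_def] at hq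
      obtain ⟨_, ⟨t, ht, rfl⟩, rfl⟩ := hq
      have key : t * (c * y * c⁻¹) = c * y * c⁻¹ * t := Subtype.ext (by
        have := hkc (t : G) ((hTNmem t).1 ht)
        simp only [c, Subgroup.coe_mul, InvMemClass.coe_inv, mul_inv_rev]
        simpa [mul_assoc] using this)
      show (π c)⁻¹ * π t * (π c)⁻¹⁻¹ * π y = π y * ((π c)⁻¹ * π t * (π c)⁻¹⁻¹)
      rw [inv_inv, ← map_inv, ← map_mul, ← map_mul, ← map_mul, ← map_mul]
      congr 1
      calc c⁻¹ * t * c * y = c⁻¹ * (t * (c * y * c⁻¹)) * c := by group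
        _ = c⁻¹ * (c * y * c⁻¹ * t) * c := by rw [key]
        _ = y * (c⁻¹ * t * c) := by group
    have hlt : Nat.card (N ⧸ A') < Nat.card G := by
      have h1 : 1 < Nat.card A' := by
        rw [Nat.card_congr (Subgroup.subgroupOfEquivOfLe (hAT.trans hTN)).toEquiv]
        exact (Subgroup.one_lt_card_iff_ne_bot A).2 hbot
      have h2 := A'.card_eq_card_quotient_mul_card_subgroup
      have h3 : 0 < Nat.card (N ⧸ A') := Nat.card_pos
      have h4 := N.card_le_card_group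
      have := Nat.mul_le_mul_left (Nat.card (N ⧸ A')) h1
      omega
    obtain ⟨T', hT'⟩ := ih (N ⧸ A') (by omega) hQ
    haveI : IsMulCommutative (TQ : Subgroup (N ⧸ A')) := by
      obtain ⟨g, hg⟩ := MulAction.exists_smul_eq (N ⧸ A') T' TQ
      refine ⟨⟨fun a b => Subtype.ext ?_⟩⟩
      obtain ⟨a', ha', hae⟩ : ∃ a' ∈ T', (MulAut.conj g) a' = a := by
        have : (a : N ⧸ A') ∈ g • T' := by rw [hg]; exact a.2
        rw [Sylow.smul_def] at this; exact this
      obtain ⟨b', hb', hbe⟩ : ∃ b' ∈ T', (MulAut.conj g) b' = b := by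
        have : (b : N ⧸ A') ∈ g • T' := by rw [hg]; exact b.2
        rw [Sylow.smul_def] at this; exact this
      rw [Subgroup.coe_mul, Subgroup.coe_mul, ← hae, ← hbe, ← map_mul, ← map_mul, hT' a' ha' b' hb']
    intro a ha b hb
    obtain ⟨k, hk, hkT, hkc⟩ := hfus a ha
    let a₀ : N := ⟨a, hTN ha⟩
    let z₀ : N := ⟨k, hk⟩ * a₀ * ⟨k, hk⟩⁻¹
    have hzQ : π z₀ ∈ (TQ : Subgroup _) := ⟨z₀, (hTNmem z₀).2 hkT, rfl⟩
    have haQ : π a₀ ∈ (TQ : Subgroup _) := ⟨a₀, (hTNmem a₀).2 ha, rfl⟩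
    obtain ⟨n', hn', hne⟩ := TQ.conj_eq_normalizer_conj_of_mem (π z₀) (π ⟨k, hk⟩) hzQ (by
      rw [← map_inv, ← map_mul, ← map_mul,
        show (⟨k, hk⟩ : N)⁻¹ * z₀ * ⟨k, hk⟩ = a₀ by simp only [z₀]; group]
      exact haQ)
    obtain ⟨m, rfl⟩ := hπs n'
    rw [← map_inv, ← map_inv, ← map_mul, ← map_mul, ← map_mul, ← map_mul,
      show (⟨k, hk⟩ : N)⁻¹ * z₀ * ⟨k, hk⟩ = a₀ by simp only [z₀]; group] at hne
    have hd : a₀⁻¹ * (m⁻¹ * z₀ * m) ∈ A' := QuotientGroup.eq.1 hne
    set d : G := ((a₀⁻¹ * (m⁻¹ * z₀ * m) : N) : G) with hddef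
    have hdA : d ∈ A := Subgroup.mem_subgroupOf.1 hd
    -- `m` normalizes `T`
    have hmT : ∀ t ∈ T, (m : G) * t * (m : G)⁻¹ ∈ T := by
      intro t ht
      have h1 : π m * π ⟨t, hTN ht⟩ * (π m)⁻¹ ∈ (TQ : Subgroup _) :=
        (Subgroup.mem_normalizer_iff.1 hn' _).1 ⟨⟨t, hTN ht⟩, (hTNmem _).2 ht, rfl⟩
      obtain ⟨u, hu, hue⟩ := h1
      rw [← map_inv, ← map_mul, ← map_mul] at hue
      have h2 := Subgroup.mem_subgroupOf.1 (QuotientGroup.eq.1 hue)
      have h3 : (m : G) * t * (m : G)⁻¹ = (u : G) * ((u⁻¹ * (m * ⟨t, hTN ht⟩ * m⁻¹) : N) : G) := by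
        simp only [Subgroup.coe_mul, InvMemClass.coe_inv]; group
      rw [h3]
      exact mul_mem ((hTNmem u).1 hu) (hAT h2)
    set z : G := k * a * k⁻¹
    have hz : a = (m : G)⁻¹ * z * m * d⁻¹ := by
      simp only [hddef, z, z₀, a₀, Subgroup.coe_mul, InvMemClass.coe_inv]; group
    have hb1 : b * ((m : G)⁻¹ * z * m) = (m : G)⁻¹ * z * m * b := by
      have := hkc _ (hmT b hb)
      calc b * ((m : G)⁻¹ * z * m) = (m : G)⁻¹ * ((m : G) * b * (m : G)⁻¹ * z) * m := by group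
        _ = (m : G)⁻¹ * (z * ((m : G) * b * (m : G)⁻¹)) * m := by rw [this]
        _ = (m : G)⁻¹ * z * m * b := by group
    have hb2 : b * d⁻¹ = d⁻¹ * b := (hcen b hb d⁻¹ (inv_mem hdA)).symm
    rw [hz, mul_assoc ((m : G)⁻¹ * z * m), ← hb2, ← mul_assoc, ← hb1, mul_assoc b]

/-- The Sylow 2-subgroups are abelian. -/
theorem Hyp.comm (h : Hyp G) (P : Sylow 2 G) : ∀ a ∈ P, ∀ b ∈ P, a * b = b * a := by
  haveI : Fact (Nat.Prime 2) := ⟨Nat.prime_two⟩
  obtain ⟨T, hT⟩ := comm_of_card_le _ G le_rfl h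
  obtain ⟨g, hg⟩ := MulAction.exists_smul_eq G T P
  intro a ha b hb
  rw [← hg, Sylow.smul_def] at ha hb
  obtain ⟨a', ha', rfl⟩ := ha
  obtain ⟨b', hb', rfl⟩ := hb
  show g * a' * g⁻¹ * (g * b' * g⁻¹) = g * b' * g⁻¹ * (g * a' * g⁻¹)
  calc g * a' * g⁻¹ * (g * b' * g⁻¹) = g * (a' * b') * g⁻¹ := by group
    _ = g * (b' * a') * g⁻¹ := by rw [hT a' ha' b' hb']
    _ = g * b' * g⁻¹ * (g * a' * g⁻¹) := by group

end CfsgLib.OddClassTwo
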